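import Groth.Prelude.Def_KRR

/-!
# Comparing `SGA6.mapSub` with an isomorphism known on generators
-/

set_option autoImplicit false
universe v u v' u'
open CategoryTheory CategoryTheory.Limits AlgebraicGeometry
attribute [local instance] HasDerivedCategory.standard

namespace Groth.Agent.Krr.H445.Poincare

section Abelian

variable {A : Type u} [Category.{v} A] [Abelian A]

/-- Two additive maps out of `K0sub P` agreeing on the classes of objects of `P` are equal. -/
theorem hom_ext {G : Type*} [AddCommGroup G] {P : ObjectProperty A} {f g : KZero.K0sub P →+ G}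
    (h : ∀ E : A, P E → f (KZero.clSub P E) = g (KZero.clSub P E)) : f = g := by
  apply QuotientAddGroup.addMonoidHom_ext
  apply FreeAbelianGroup.lift_ext
  rintro ⟨E, hE⟩
  have := h E hE
  simp only [KZero.clSub, dif_pos hE] at this
  exact this

/-- `mapSub` of the identity functor on classes. -/
theorem mapSub_id_clSub (P Q : ObjectProperty A) (h : ∀ E, P E → Q ((𝟭 A).obj E)) (E : A) (hE : P E) :
    SGA6.mapSub (𝟭 A) P Q h (KZero.clSub P E) = KZero.clSub Q E := by
  have hQ : Q E := h E hE
  rw [KZero.clSub, dif_pos hE, KZero.clSub, dif_pos hQ]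
  rfl

/-- If `K0sub P` and `K0sub Q` are isomorphic in a way compatible with classes then the map induced
by the inclusion is bijective. -/
theorem bijective_mapSub_id (P Q : ObjectProperty A) (h : ∀ E, P E → Q ((𝟭 A).obj E))
    (e : KZero.K0sub P ≃+ KZero.K0sub Q)
    (he : ∀ E, P E → e (KZero.clSub P E) = KZero.clSub Q E) :
    Function.Bijective (SGA6.mapSub (𝟭 A) P Q h) := by
  have : SGA6.mapSub (𝟭 A) P Q h = e.toAddMonoidHom :=
    hom_ext fun E hE => (mapSub_id_clSub P Q h E hE).trans (he E hE).symm
  rw [this]
  exact e.bijective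

end Abelian

end Groth.Agent.Krr.H445.Poincare
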